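import Cfsg.Agent.SB.Exc.Defs
import Cfsg.Agent.DL.St.Main

/-!
# S5765, exceptional groups: orders of finite reductive groups and of their maximal tori (helper52)

`Fq p ρ F n` : a power `F ^ d` is the standard `p ^ (n * d)`-Frobenius map (`q = p ^ n`).  For every datum `D` of `F`:
`le_card_T`, `card_T_le`, `card_tori_le` (all rational tori), `card_S_le` (`|U_A ^ F| ≤ q ^ |A|`), `pc_le`, `card_G_le`.
-/

set_option autoImplicit false
set_option linter.unusedSectionVars false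

namespace Cfsg.Agent.SB.Exc

namespace Card

open Cfsg.Agent.DL Cfsg.Agent.DL.Asm Cfsg.Agent.DL.Uni Cfsg.Agent.Nodes.Reps Cfsg.Agent.Nodes.BNOf
  Cfsg.Agent.LangThm Polynomial

/-! ### determinants -/

section det

variable {R : Type} [Fintype R] [DecidableEq R]

theorem norm_root {A : Matrix R R ℂ} {d q : ℕ} (hd : d ≠ 0) (hA : A ^ d = ((q : ℂ) ^ d) • (1 : Matrix R R ℂ)) {μ : ℂ}
    (h : A.charpoly.IsRoot μ) : ‖μ‖ = q := by
  have h1 : (Matrix.scalar R μ - A).det = 0 := by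
    rw [← Matrix.eval_charpoly]
    exact h
  obtain ⟨v, hv, h2⟩ := Matrix.exists_mulVec_eq_zero_iff.2 h1
  have h3 : A.mulVec v = μ • v := by
    rw [Matrix.sub_mulVec, sub_eq_zero] at h2
    rw [← h2]
    ext i
    simp [Matrix.scalar_apply, Matrix.mulVec_diagonal]
  have h4 : ∀ n : ℕ, (A ^ n).mulVec v = μ ^ n • v := by
    intro n
    induction n with
    | zero => simp
    | succ n ih => rw [pow_succ', ← Matrix.mulVec_mulVec, ih, Matrix.mulVec_smul, h3, smul_smul, pow_succ]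
  have h5 := h4 d
  rw [hA, Matrix.smul_mulVec, Matrix.one_mulVec] at h5
  have h7 : ‖μ‖ ^ d = (q : ℝ) ^ d := by
    rw [← norm_pow, ← smul_left_injective ℂ hv h5, norm_pow, Complex.norm_natCast]
  exact (pow_left_inj₀ (by positivity) (by positivity) hd).1 h7

theorem det_bounds {B : Matrix R R ℤ} {d q : ℕ} (hd : d ≠ 0) (hq : 1 ≤ q)
    (hB : B ^ d = ((q : ℤ) ^ d) • (1 : Matrix R R ℤ)) :
    (q - 1) ^ Fintype.card R ≤ (B - 1).det.natAbs ∧ (B - 1).det.natAbs ≤ (q + 1) ^ Fintype.card R := by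
  set A := B.map (Int.castRingHom ℂ) with hA
  have hA1 : A ^ d = ((q : ℂ) ^ d) • (1 : Matrix R R ℂ) := by
    have h1 := congrArg (RingHom.mapMatrix (Int.castRingHom ℂ)) hB
    rw [map_pow] at h1
    rw [show A ^ d = (RingHom.mapMatrix (Int.castRingHom ℂ)) B ^ d from rfl, h1]
    ext i j
    rw [RingHom.mapMatrix_apply, Matrix.map_apply, Matrix.smul_apply, Matrix.smul_apply, Matrix.one_apply,
      Matrix.one_apply]
    split_ifs <;> simp
  have h2 : (((1 - B).det : ℤ) : ℂ) = (1 - A).det := by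
    have h3 := RingHom.map_det (Int.castRingHom ℂ) (1 - B)
    rw [map_sub, map_one] at h3
    exact h3
  have h1 : (1 - A).det = A.charpoly.eval 1 := by
    rw [Matrix.eval_charpoly, map_one]
  have hs : A.charpoly.Splits := IsAlgClosed.splits _
  have h4 : A.charpoly.roots.card = Fintype.card R := by
    rw [← hs.natDegree_eq_card_roots, Matrix.charpoly_natDegree_eq_dim]
  have hq' : (0 : ℝ) ≤ (q : ℝ) - 1 := sub_nonneg.2 (by exact_mod_cast hq)
  have key : ∀ s : Multiset ℂ, (∀ μ ∈ s, ‖μ‖ = q) → ((q : ℝ) - 1) ^ s.card ≤ ‖(s.map fun μ => (1 : ℂ) - μ).prod‖ ∧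
      ‖(s.map fun μ => (1 : ℂ) - μ).prod‖ ≤ ((q : ℝ) + 1) ^ s.card := by
    intro s
    induction s using Multiset.induction_on with
    | empty => intro _; simp
    | cons a s ih =>
      intro h
      rw [Multiset.map_cons, Multiset.prod_cons, Multiset.card_cons, norm_mul, pow_succ', pow_succ']
      have h0 := h a (Multiset.mem_cons_self a s)
      have ha : ‖(1 : ℂ) - a‖ ≤ q + 1 := by
        refine (norm_sub_le _ _).trans ?_
        rw [h0, norm_one, add_comm]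
      have hb : (q : ℝ) - 1 ≤ ‖(1 : ℂ) - a‖ := by
        have := norm_sub_norm_le a 1
        rwa [h0, norm_one, norm_sub_rev] at this
      obtain ⟨i1, i2⟩ := ih fun μ hμ => h μ (Multiset.mem_cons_of_mem hμ)
      exact ⟨mul_le_mul hb i1 (pow_nonneg hq' _) (norm_nonneg _), mul_le_mul ha i2 (norm_nonneg _) (by positivity)⟩
  have h5 := key A.charpoly.roots fun μ hμ => norm_root hd hA1 (isRoot_of_mem_roots hμ)
  rw [h4, ← hs.eval_eq_prod_roots_of_monic (Matrix.charpoly_monic A), ← h1, ← h2, Complex.norm_intCast] at h5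
  have h6 : (B - 1).det.natAbs = (1 - B).det.natAbs := by
    rw [← neg_sub 1 B, Matrix.det_neg, Int.natAbs_mul, Int.natAbs_pow, Int.natAbs_neg, Int.natAbs_one, one_pow, one_mul]
  rw [← Int.cast_abs, ← Nat.cast_natAbs, ← h6] at h5
  constructor
  · have h7 : (((q - 1) ^ Fintype.card R : ℕ) : ℝ) ≤ ((B - 1).det.natAbs : ℝ) := by
      rw [Nat.cast_pow, Nat.cast_sub hq, Nat.cast_one]; exact h5.1
    exact_mod_cast h7
  · exact_mod_cast h5.2

end det

theorem card_le_mul {K T : Type*} [Group K] [Finite T] (K' : Subgroup K) (f : K → T)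
    (h : ∀ a b, f a = f b → a⁻¹ * b ∈ K') : Nat.card K ≤ Nat.card T * Nat.card K' := by
  rw [Subgroup.card_eq_card_quotient_mul_card_subgroup K']
  refine Nat.mul_le_mul_right _ (Nat.card_le_card_of_injective (fun c : K ⧸ K' => f c.out) fun c c' e => ?_)
  rw [← c.out_eq', ← c'.out_eq', QuotientGroup.eq]
  exact h _ _ e

theorem card_sol {k : Type} [Field k] (c : k) {m : ℕ} (hm : 1 < m) :
    Finite {t : k // c * t ^ m = t} ∧ Nat.card {t : k // c * t ^ m = t} ≤ m := by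
  classical
  have h0 : (C c * X ^ m - X : k[X]) ≠ 0 := fun h => by
    have := congrArg (coeff · 1) h
    simp only [coeff_sub, coeff_C_mul, coeff_X_pow, coeff_X_one, if_neg hm.ne, mul_zero, zero_sub, coeff_zero,
      neg_eq_zero] at this
    exact one_ne_zero this
  have h1 : (C c * X ^ m - X : k[X]).natDegree ≤ m :=
    (natDegree_sub_le _ _).trans (max_le (natDegree_C_mul_X_pow_le c m) (natDegree_X_le.trans hm.le))
  let f : {t : k // c * t ^ m = t} → (C c * X ^ m - X : k[X]).roots.toFinset := fun t =>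
    ⟨t.1, by rw [Multiset.mem_toFinset, mem_roots h0]; simp [t.2]⟩
  have hf : Function.Injective f := fun a b e => Subtype.ext (congrArg Subtype.val e :)
  refine ⟨Finite.of_injective f hf, (Nat.card_le_card_of_injective f hf).trans ?_⟩
  rw [Nat.card_eq_finsetCard]
  exact (Multiset.toFinset_card_le _).trans ((card_roots' _).trans h1)

variable {p : ℕ} [Fact p.Prime] {k : Type} [Field k] [CharP k p] {Y : Type} [Group Y] {N : Type} [Fintype N]
  [DecidableEq N] {ρ : Y →* GL N k} {F : MulAut Y} {G : Subgroup Y} [IsAlgClosed k]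

variable (p ρ F) in
/-- `F` is a `p ^ n`-Frobenius map -/
def Fq (n : ℕ) : Prop := 0 < n ∧ ∃ d, 0 < d ∧ ∀ y, ρ ((F ^ d) y) = frob p (n * d) (ρ y)

theorem Fq.of_split {D : Datum p ρ F G} {d n : ℕ} (H : D.Split d (n * d)) : Fq p ρ F n :=
  ⟨Nat.pos_of_mul_pos_right H.e_pos, d, H.d_pos, H.frob⟩

variable {n : ℕ}

theorem Fq.split (h : Fq p ρ F n) (D : Datum p ρ F G) : ∃ d, D.Split d (n * d) := by
  obtain ⟨hn, d, hd, hf⟩ := h
  obtain ⟨e₁, he₁, h₁⟩ := D.exists_level_x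
  obtain ⟨e₂, he₂, h₂⟩ := D.exists_level_τ
  have h0 := D.e0_pos
  have hm : 0 < D.e0 * e₁ * e₂ := by positivity
  have hf' : ∀ y, ρ ((F ^ (d * (D.e0 * e₁ * e₂))) y) = frob p (n * (d * (D.e0 * e₁ * e₂))) (ρ y) := fun y => by
    rw [← mul_assoc n]
    exact Amb.pow_frob hf _ y
  have he : 0 < n * (d * (D.e0 * e₁ * e₂)) := by positivity
  have hd' : D.e0 * e₁ * e₂ ∣ n * (d * (D.e0 * e₁ * e₂)) := Dvd.dvd.mul_left (dvd_mul_left _ _) _
  have h3 : D.e0 ∣ n * (d * (D.e0 * e₁ * e₂)) := ((dvd_mul_right _ _).trans (dvd_mul_right _ _)).trans hd'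
  refine ⟨d * (D.e0 * e₁ * e₂), Nat.mul_pos hd hm, he, h3, hf', fun a ha u => D.amb.inj ?_, fun c => D.amb.inj ?_,
    fun i => D.amb.inj ?_⟩
  · rw [hf', h₁ _ (((dvd_mul_left _ _).trans (dvd_mul_right _ _)).trans hd') a ha]
  · rw [hf', h₂ _ ((dvd_mul_left _ _).trans hd')]
  · rw [hf']
    exact D.n_mem_lev he h3 i

theorem Fq.Mx_pow (h : Fq p ρ F n) (D : Datum p ρ F G) :
    ∃ d, d ≠ 0 ∧ D.Mx ^ d = (((p ^ n : ℕ) : ℤ) ^ d) • (1 : Matrix D.R D.R ℤ) := by
  obtain ⟨d, H⟩ := h.split D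
  exact ⟨d, H.d_pos.ne', by rw [D.Mx_pow H, Nat.cast_pow, ← pow_mul]⟩

theorem Fq.card_T (h : Fq p ρ F n) (D : Datum p ρ F G) :
    (p ^ n - 1) ^ Fintype.card D.R ≤ Nat.card ↥(D.T ⊓ GF F G) ∧
      Nat.card ↥(D.T ⊓ GF F G) ≤ (p ^ n + 1) ^ Fintype.card D.R := by
  obtain ⟨d, hd, h1⟩ := h.Mx_pow D
  rw [D.card_TF]
  exact det_bounds hd (Nat.one_le_pow _ _ (Fact.out : p.Prime).pos) h1

/-- all rational maximal tori -/
theorem Fq.card_tori (h : Fq p ρ F n) (D : Datum p ρ F G) {T : Subgroup Y} (hT : T ∈ tori D) :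
    (p ^ n - 1) ^ Fintype.card D.R ≤ Nat.card ↥(T ⊓ GF F G) ∧
      Nat.card ↥(T ⊓ GF F G) ≤ (p ^ n + 1) ^ Fintype.card D.R := by
  obtain ⟨y, hy, rfl, h1⟩ := hT
  exact h.card_T (D.conj hy ((D.stable_iff hy).1 h1))

/-- the exponent along an orbit of roots -/
theorem Fq.sum_ex (h : Fq p ρ F n) (D : Datum p ρ F G) {r : D.I → ℤ} (hr : D.Rt r) {m : ℕ} (hm : 0 < m)
    (e : D.g^[m] r = r) : ∑ i ∈ Finset.range m, D.ex (D.g^[i] r) = n * m := by
  obtain ⟨d, hd, h1⟩ := h.Mx_pow D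
  have h2 : Matrix.vecMul (D.wt (D.g^[m] r)) (D.Mx ^ m) =
    ((p : ℤ) ^ ∑ i ∈ Finset.range m, D.ex (D.g^[i] r)) • D.wt r := (D.pow hm).wt_g hr
  rw [e] at h2
  generalize ∑ i ∈ Finset.range m, D.ex (D.g^[i] r) = E at h2
  have h3 : ∀ j, Matrix.vecMul (D.wt r) ((D.Mx ^ m) ^ j) = ((p : ℤ) ^ (E * j)) • D.wt r := by
    intro j
    induction j with
    | zero => simp
    | succ j ih => rw [pow_succ, ← Matrix.vecMul_vecMul, ih, Matrix.smul_vecMul, h2, smul_smul, ← pow_add, Nat.mul_succ]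
  have h4 := h3 d
  rw [← pow_mul, mul_comm m, pow_mul, h1, _root_.smul_pow, one_pow, Matrix.vecMul_smul, Matrix.vecMul_one] at h4
  have h5 : D.wt r ≠ 0 := fun h0 => hr.ne_zero (D.wt_injective (h0.trans (map_zero _).symm))
  have h6 := smul_left_injective ℤ h5 h4
  rw [Nat.cast_pow, ← pow_mul, ← pow_mul] at h6
  have h7 : n * d * m = E * d := by
    rw [mul_assoc]
    exact Nat.pow_right_injective (Fact.out : p.Prime).two_le (by exact_mod_cast h6)
  exact Nat.eq_of_mul_eq_mul_right (Nat.pos_of_ne_zero hd) (by rw [← h7]; ring)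

/-- the rational points of a unipotent group -/
theorem Fq.card_S (h : Fq p ρ F n) (D : Datum p ρ F G) : ∀ (j : ℕ) (A : Set (D.I → ℤ)), D.Uni A →
    (∀ a ∈ A, D.g a ∈ A) → A.ncard = j → Nat.card ↥(D.S A ⊓ fix F) ≤ (p ^ n) ^ j := by
  intro j
  induction j using Nat.strong_induction_on with
  | _ j ih =>
  intro A hA hg hj
  have hfin : A.Finite := D.finite_roots.subset hA.root
  obtain ⟨lam, hl⟩ := hA.pos
  obtain ⟨L, hL, hLA⟩ := exists_conv hA.root lam hl
  rcases L with _ | ⟨r, L⟩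
  · obtain rfl : A = ∅ := Set.eq_empty_of_forall_notMem fun a ha => by simpa using (hLA a).2 ha
    rw [Datum.S, Nodes.OppDec.Sup_empty, bot_inf_eq, Subgroup.card_bot]
    exact Nat.one_le_pow _ _ (pow_pos (Fact.out : p.Prime).pos _)
  obtain ⟨⟨f, hf0, hf⟩, -⟩ := hL
  have hrA : r ∈ A := (hLA r).1 List.mem_cons_self
  have hr := hA.root r hrA
  have e0 : {x | x ∈ A ∧ 0 < f x} = A \ {r} := by
    ext x
    refine ⟨fun hx => ⟨hx.1, fun e => hx.2.ne' (e ▸ hf0)⟩, fun hx => ⟨hx.1, ?_⟩⟩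
    exact hf x ((List.mem_cons.1 ((hLA x).2 hx.1)).resolve_left hx.2)
  have dec : ∀ u ∈ D.S A, ∃ t, (D.x r t)⁻¹ * u ∈ D.S (A \ {r}) := by
    intro u hu
    obtain ⟨a, ha, b, hb, e⟩ := D.split hA.cl lam f hl (inv_mem hu)
    have h1 : b ∈ D.X r := (RGD.Sup_le fun x hx => by
      rcases List.mem_cons.1 ((hLA x).2 hx.1) with rfl | h
      · exact le_rfl
      · exact absurd (hf x h) (not_lt.2 hx.2) : D.S _ ≤ D.X r) hb
    obtain ⟨t, ht⟩ := (D.mem_X r hr _).1 (inv_mem h1)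
    refine ⟨t, ?_⟩
    rw [ht, ← inv_inv u, e, ← e0]
    simpa using ha
  have uniq : ∀ u t t', (D.x r t)⁻¹ * u ∈ D.S (A \ {r}) → (D.x r t')⁻¹ * u ∈ D.S (A \ {r}) → t = t' := by
    intro u t t' h1 h2
    have h3 := mul_mem h1 (inv_mem h2)
    rw [mul_inv_rev, inv_inv, mul_assoc, mul_inv_cancel_left, ← D.x_neg hr, ← D.x_add _ hr, ← e0] at h3
    have h4 := D.sup_inf_sup' f lam (RGD.Sup_mono (S' := {x | D.Rt x ∧ 0 < f x}) (fun x hx => ⟨hA.root x hx.1, hx.2⟩) h3)
      (RGD.le_Sup (S := {x | D.Rt x ∧ f x ≤ 0 ∧ 0 < lam x}) ⟨hr, hf0.le, hl r hrA⟩ (D.x_mem hr _))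
    have := (D.x_eq_one_iff hr).1 h4
    linear_combination -this
  have hbij := D.g_bijOn hA.root hg
  have mem : ∀ i, D.g^[i] r ∈ A := fun i => hbij.mapsTo.iterate i hrA
  have step : ∀ b ∈ A, D.g '' (A \ {b}) = A \ {D.g b} := fun b hb => by
    rw [hbij.injOn.image_sdiff_subset (Set.singleton_subset_iff.2 hb), hbij.image_eq, Set.image_singleton]
  have cl : ∀ i, D.Cl (A \ {D.g^[i] r}) := by
    intro i
    induction i with
    | zero => exact e0 ▸ hA.cl.pos f
    | succ i ih => rw [Function.iterate_succ_apply', ← step _ (mem i)]; exact ih.g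
  have mv : ∀ i, ∀ b ∈ A, ∀ u ∈ D.S (A \ {b}), (F ^ i) u ∈ D.S (A \ {D.g^[i] b}) := by
    intro i b hb u hu
    induction i with
    | zero => exact hu
    | succ i ih =>
      rw [Function.iterate_succ_apply', ← step _ (hbij.mapsTo.iterate i hb), pow_succ', MulAut.mul_apply]
      exact D.F_mem_S (fun a ha => hA.root a ha.1) (fun a ha => Set.mem_image_of_mem _ ha) ih
  have per : r ∈ Function.periodicPts D.g := by
    have := hfin.to_subtype
    obtain ⟨m, hm, e⟩ := (hbij.mapsTo.restrict_inj.2 hbij.injOn).mem_periodicPts ⟨r, hrA⟩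
    exact ⟨m, hm, by
      have := congrArg Subtype.val e
      rwa [Set.MapsTo.coe_iterate_restrict] at this⟩
  set m := Function.minimalPeriod D.g r with hm
  have hm0 : 0 < m := Function.minimalPeriod_pos_of_mem_periodicPts per
  have em : D.g^[m] r = r := Function.iterate_minimalPeriod
  have all : ∀ i, D.Cl (A \ (fun j => D.g^[j] r) '' Set.Iio i) ∧
      ∀ u ∈ D.S A, u ∈ D.S (A \ {r}) → F u = u → u ∈ D.S (A \ (fun j => D.g^[j] r) '' Set.Iio i) := by
    intro i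
    induction i with
    | zero =>
      have e : Set.Iio (0 : ℕ) = ∅ := Set.Iio_bot
      rw [e, Set.image_empty, Set.sdiff_empty]
      exact ⟨hA.cl, fun u hu _ _ => hu⟩
    | succ i ih =>
      have e : A \ (fun j => D.g^[j] r) '' Set.Iio (i + 1) =
          (A \ (fun j => D.g^[j] r) '' Set.Iio i) ∩ (A \ {D.g^[i] r}) := by
        have e1 : Set.Iio (i + 1) = insert i (Set.Iio i) := by
          ext x
          simp only [Set.mem_Iio, Set.mem_insert_iff]
          omega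
        rw [Set.sdiff_inter_sdiff, e1, Set.image_insert_eq, Set.union_singleton]
      rw [e]
      refine ⟨ih.1.inter (cl i), fun u hu h1 h2 => ?_⟩
      rw [← D.S_inf_S ih.1 (cl i) lam fun a ha => hl a (ha.elim And.left And.left)]
      have h3 := mv i r hrA u h1
      rw [mem_fix.1 (fix_le_fix_pow i h2)] at h3
      exact ⟨ih.2 u hu h1 h2, h3⟩
  set O := (fun j => D.g^[j] r) '' Set.Iio m with hO
  have hOA : O ⊆ A := by rintro _ ⟨i, -, rfl⟩; exact mem i
  have cO : O.ncard = m := by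
    rw [hO, Set.InjOn.ncard_image Function.iterate_injOn_Iio_minimalPeriod, ← Finset.coe_range, Set.ncard_coe_finset,
      Finset.card_range]
  have c1 : (A \ O).ncard + m = j := by rw [← cO, Set.ncard_sdiff_add_ncard_of_subset hOA hfin, hj]
  have ih' := ih _ (by omega) (A \ O) (hA.subset (all m).1 Set.sdiff_subset) (by
    rintro a ⟨ha, ha'⟩
    refine ⟨hg a ha, ?_⟩
    rintro ⟨i, -, e⟩
    refine ha' ⟨(i + (m - 1)) % m, Nat.mod_lt _ hm0, ?_⟩
    show D.g^[_] r = a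
    rw [Function.iterate_mod_minimalPeriod_eq]
    refine hbij.injOn (mem _) ha ?_
    rw [← Function.iterate_succ_apply' D.g, show (i + (m - 1)).succ = i + m by omega, Function.iterate_add_apply, em]
    exact e) rfl
  obtain ⟨c, -, hc⟩ := D.F_pow_x m hr
  rw [em, h.sum_ex D hr hm0 em] at hc
  obtain ⟨s1, s2⟩ := card_sol c (m := p ^ (n * m)) (Nat.one_lt_pow (Nat.mul_pos h.1 hm0).ne' (Fact.out : p.Prime).one_lt)
  choose κ hκ using dec
  have h1 := card_le_mul ((D.S (A \ O) ⊓ fix F).subgroupOf (D.S A ⊓ fix F))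
    (T := {t : k // c * t ^ p ^ (n * m) = t}) (fun u => ⟨κ u u.2.1, by
      refine uniq u _ _ ?_ (hκ u u.2.1)
      have h2 := mv m r hrA _ (hκ u u.2.1)
      rwa [em, map_mul, map_inv, hc, mem_fix.1 (fix_le_fix_pow m u.2.2)] at h2⟩) fun a b e => by
    have e' : κ a a.2.1 = κ b b.2.1 := congrArg Subtype.val e
    have h2 := mul_mem (inv_mem (hκ a a.2.1)) (hκ b b.2.1)
    rw [e', mul_inv_rev, inv_inv, mul_assoc, mul_inv_cancel_left] at h2
    exact ⟨(all m).2 _ (a⁻¹ * b).2.1 h2 (a⁻¹ * b).2.2, (a⁻¹ * b).2.2⟩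
  rw [Nat.card_congr (Subgroup.subgroupOfEquivOfLe (inf_le_inf_right _ (RGD.Sup_mono Set.sdiff_subset))).toEquiv] at h1
  refine h1.trans ((Nat.mul_le_mul s2 ih').trans_eq ?_)
  rw [pow_mul, ← pow_add, add_comm, c1]

theorem two_mul_pos (D : Datum p ρ F G) : 2 * (RGD.Pos D.cs D.h).ncard ≤ {a | D.Rt a}.ncard := by
  have h0 : (RGD.Pos D.cs D.h).Finite := D.finite_roots.subset fun _ h => h.1
  rw [two_mul]
  nth_rewrite 2 [← Set.ncard_image_of_injective _ neg_injective]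
  rw [← Set.ncard_union_eq _ h0 (h0.image _)]
  · refine Set.ncard_le_ncard ?_ D.finite_roots
    rintro a (ha | ⟨b, hb, rfl⟩)
    exacts [ha.1, hb.1.neg]
  · rw [Set.disjoint_left]
    rintro _ ha ⟨b, hb, rfl⟩
    exact hb.1.ne_zero (le_antisymm (neg_nonneg.1 ha.2) hb.2)

/-- the `p`-part of the order -/
theorem Fq.pc_le (h : Fq p ρ F n) (D : Datum p ρ F G) : pc p (GF F G) ≤ (p ^ n) ^ (RGD.Pos D.cs D.h).ncard := by
  obtain ⟨y, hy, hF, hq⟩ := D.exists_qs
  have := finite_GF D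
  have h1 := St.card_U (D.conj hy hF).sbn (St.aut_qs hq) (H := GF F G) (fun _ => mem_GF) (D.conj hy hF).isPGroup_U
    (fun _ => St.eq_one_of_pow _) (St.move hq)
  have h2 := h.card_S (D.conj hy hF) _ _ (D.conj hy hF).uni_pos
    (fun a ha => ⟨(D.conj hy hF).g_root a ha.1, hq a ha.1 ha.2⟩) rfl
  have h3 : (D.conj hy hF).U ⊓ GF F G = (D.conj hy hF).U ⊓ fix F := by
    rw [GF, ← inf_assoc, inf_eq_left.2 (D.conj hy hF).U_le_G]
  rw [pc, ← h1, h3]
  exact h2

/-- the order of the finite group -/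
theorem Fq.card_G (h : Fq p ρ F n) (D : Datum p ρ F G) :
    Nat.card (GF F G) ≤ (p ^ n) ^ {a | D.Rt a}.ncard * (p ^ n + 1) ^ Fintype.card D.R := by
  have S := sys_of Mk.mackey subBox D
  obtain ⟨St, hSt⟩ := St.stD D
  have h1 := S.count
  rw [finsum_mem_eq_finite_toFinset_sum _ S.finA] at h1
  rw [← h1]
  refine (Finset.sum_le_card_nsmul _ _ _ fun T hT => (h.card_tori D (S.mem_tori.1 hT)).2).trans ?_
  rw [smul_eq_mul]
  refine Nat.mul_le_mul_right _ ((hSt.card_tori S).trans_le ((Nat.pow_le_pow_left (h.pc_le D) 2).trans ?_))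
  rw [← pow_mul, mul_comm]
  exact Nat.pow_le_pow_right (pow_pos (Fact.out : p.Prime).pos _) (two_mul_pos D)

end Card

theorem boxCard : BoxCard := fun _ _ _ _ _ _ _ _ _ _ _ _ _ _ D _ _ H =>
  ⟨((Card.Fq.of_split H).card_T D).1, ((Card.Fq.of_split H).card_T D).2, (Card.Fq.of_split H).card_G D⟩

end Cfsg.Agent.SB.Exc
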