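import Cfsg.Agent.SB.Mono
import Cfsg.Agent.SB.R1.Crit
import Cfsg.Agent.DS.Nt.Defs
import Cfsg.Agent.DL.Ex.Split
import Cfsg.Agent.DL.Dat.Tor

/-!
# S5765, the groups `F₄, E₆, ²E₆, E₇, E₈`, non-parabolic case: interface (helper50)

Paper proofs: `notes/SB/exc.md`.  `G` finite, `T ⊴ G` the socle, `S` solvable, `G = T S`, `R = S ⊓ T` (`Ctx`).
`Y = YY D p`; `XF hp p q T` is the frame of DS (`MData`, `Ext`, `Lift`) with additional fields: the kernel of `π`, the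
degree of a lift, the form of the lifts, order bounds.  `F.ID` is the group of inner-diagonal elements of `G`.

Boxes: `BoxFrm*` (existence of frames), `BoxCard` (orders of finite reductive groups), `BoxCI`, `BoxCI6` (centralizers of
semisimple elements), `BoxCrit` (the counting criterion), `BoxMax`, `BoxTor`, `BoxNT` (the three cases), assembly `nF4_of` etc.
-/

set_option autoImplicit false
set_option linter.unusedSectionVars false

namespace Cfsg.Agent.SB.Exc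

open CoxeterSystem Cfsg Cfsg.Lie Cfsg.Lie.ChevalleyDatum
open Cfsg.Agent.ChevalleyStructure Cfsg.Agent.ChevalleyStructure.Elts Cfsg.Agent.ChevalleyStructure.CoxeterGeom
  Cfsg.Agent.ChevalleyStructure.CoxeterGeomTypes
open Cfsg.Agent.Tits.Roots Cfsg.Agent.Tits.Core Cfsg.Agent.Nodes Cfsg.Agent.Nodes.Reps Cfsg.Agent.Nodes.BNOf
  Cfsg.Agent.Nodes.RGDChev Cfsg.Agent.Nodes.Bruhat
open Cfsg.Agent.KFacts.RgdField Cfsg.Agent.KFacts.RgdChevCoord
open Cfsg.Agent.BpExc Cfsg.Agent.BpExc.TorCent Cfsg.Agent.BpExc.TorChev Cfsg.Agent.BpExc.Tow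
  Cfsg.Agent.BpExc.TowChev Cfsg.Agent.BpExc.Fr Cfsg.Agent.BpExc.LangFr
open Cfsg.Agent.H469.Exc Cfsg.Agent.H316.U6 Cfsg.Agent.H129.TorusChar Cfsg.Agent.DS.Ex Cfsg.Agent.H786.FC

/-! ### the group-theoretic context -/

/-- `X` is normalised by `S` -/
def Nm {G : Type*} [Group G] (S X : Subgroup G) : Prop := ∀ s ∈ S, ∀ x ∈ X, s * x * s⁻¹ ∈ X

/-- the hypotheses of the non-parabolic case, in the group `G = T S` -/
structure Ctx (p : ℕ) {G : Type} [Group G] (T S : Subgroup G) : Prop where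
  as : AS T
  solv : Group.IsSolvable S
  max : MaxInv T S
  npar : NPar p T S
  sup : T ⊔ S = ⊤

/-! ### numbers (indexed by the rank `l = 4, 6, 7, 8`) -/

/-- the number of positive roots -/
def nP (l : ℕ) : ℕ := if l = 4 then 24 else if l = 6 then 36 else if l = 7 then 63 else 120

/-- the order of the fundamental group -/
def dM (l : ℕ) : ℕ := if l = 6 then 3 else if l = 7 then 2 else 1

/-- the degrees -/
def degs (l : ℕ) : List ℕ :=
  if l = 4 then [2, 6, 8, 12] else if l = 6 then [2, 5, 6, 8, 9, 12] else if l = 7 then [2, 6, 8, 10, 12, 14, 18]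
  else [2, 8, 12, 14, 18, 20, 24, 30]

/-- the order of the untwisted group of inner-diagonal automorphisms (a lower bound in the twisted case) -/
def ordU (l q : ℕ) : ℕ := q ^ nP l * ((degs l).map fun d => q ^ d - 1).prod

/-- the bound for the centralizers of semisimple elements of prime order -/
def bI (l p q : ℕ) : ℕ :=
  if l = 4 then (if p = 2 then q ^ 18 else q ^ 32) * (q + 1) ^ 4 else if l = 6 then q ^ 40 * (q + 1) ^ 6
  else if l = 7 then 2 * (q ^ 72 * (q + 1) ^ 7) else q ^ 128 * (q + 1) ^ 8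

/-! ### the frame -/

section Frame

variable {D : ChevalleyDatum} {l : ℕ} {M : CoxeterMatrix (Fin l)} (hp : IsType D l M) (p : ℕ) [Fact p.Prime]

/-- `β` permutes the root groups and acts on the torus in the way required by `DL.Datum.newF` -/
structure Sem (β : MulAut (YY D p)) (g : (Fin l → ℤ) → (Fin l → ℤ)) (ex : (Fin l → ℤ) → ℕ)
    (Mx : Matrix (Fin l) (Fin l) ℤ) : Prop where
  root : ∀ a, IsRoot M.toCoxeterSystem hp.isCartan a → IsRoot M.toCoxeterSystem hp.isCartan (g a)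
  x : ∀ a, IsRoot M.toCoxeterSystem hp.isCartan a →
    ∃ c : KK p, c ≠ 0 ∧ ∀ u, β (xc hp a u) = xc hp (g a) (c * u ^ p ^ ex a)
  τ : ∀ c, β (DL.Ex.tau hp c) = DL.Ex.tau hp (DL.mon Mx c)

/-- **The frame.** -/
structure XF (q : ℕ) {G : Type} [Group G] (T : Subgroup G) where
  m : MData hp p q T
  A : Subgroup (MulAut (YY D p))
  ext : Ext m A
  L : Lift hp p T
  hσ : L.σ = m.σ
  hι : L.ι = m.ι
  /-- the kernel of `π` is generated by `σ` -/
  ker : ∀ φ : L.Γ, L.π φ = 1 → (φ : MulAut (YY D p)) ∈ Subgroup.zpowers L.σ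
  /-- the degree of the `p`-Frobenius map -/
  κ : ℕ
  hκ : κ = 1 ∨ (D = chevF4 ∧ p = 2 ∧ κ = 2)
  /-- the degree of a lift: `conj y * τ ^ i * ψ ^ n ↦ n`, `ψ ^ κ` the `p`-Frobenius map, `τ` the graph automorphism of `E₆` -/
  deg : L.Γ → ℤ
  deg_mul : ∀ φ ψ, deg (φ * ψ) = deg φ + deg ψ
  deg_σ : deg ⟨L.σ, L.mem_σ⟩ = κ * m.e
  frob : ∀ (φ : L.Γ) (n : ℕ), deg φ = κ * n → IsFrob p n (φ : MulAut (YY D p)) ∧
    ∃ (y : YY D p) (g : (Fin l → ℤ) ≃+ (Fin l → ℤ)),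
      Fr M.toCoxeterSystem hp.isCartan (TT D (KK p)) (XX D l (KK p)) (MulAut.conj y * (φ : MulAut (YY D p))) g
  pos : ∀ φ : L.Γ, 0 < deg φ → DL.Amb p (D.group (KK p)).subtype (φ : MulAut (YY D p)) ∧
    ∃ y g ex Mx, Sem hp p (MulAut.conj y * (φ : MulAut (YY D p))) g ex Mx
  alg : ∀ φ : L.Γ, deg φ = 0 → (∃ y : YY D p, (φ : MulAut (YY D p)) = MulAut.conj y) ∨
    (D = chevE6 ∧ ∃ (y : YY D p) (g : (Fin l → ℤ) ≃+ (Fin l → ℤ)) (w : M.Group),
      Fr M.toCoxeterSystem hp.isCartan (TT D (KK p)) (XX D l (KK p)) (MulAut.conj y * (φ : MulAut (YY D p))) g ∧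
        ∀ a, g a = -rep M.toCoxeterSystem hp.isCartan w a)
  alg₂ : ∀ φ ψ : L.Γ, deg φ = 0 → deg ψ = 0 → (∃ y : YY D p, (φ : MulAut (YY D p)) = MulAut.conj y) ∨
    (∃ y : YY D p, (ψ : MulAut (YY D p)) = MulAut.conj y) ∨ ∃ y : YY D p, (φ : MulAut (YY D p)) * (ψ : MulAut (YY D p)) = MulAut.conj y
  /-- the action of `σ` on the roots -/
  gW : ∃ w : M.Group, (∀ a, m.g a = rep M.toCoxeterSystem hp.isCartan w a) ∨
    (D = chevE6 ∧ ∀ a, m.g a = -rep M.toCoxeterSystem hp.isCartan w a)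
  idx : Nat.card (DL.fix L.σ) ≤ dM l * Nat.card T
  ord : ordU l q ≤ dM l * Nat.card T

variable {hp p} {q : ℕ} {G : Type} [Group G] {T : Subgroup G}

/-- the datum of `σ` in the standard frame -/
noncomputable def XF.dat (F : XF hp p q T) : DL.Datum p (D.group (KK p)).subtype F.m.σ ⊤ :=
  DL.Ex.chevFr hp (locFin p) F.m.he F.m.frob F.m.fr

/-- `y ∈ Y` induces `g ∈ G` -/
def XF.Ind (F : XF hp p q T) (y : YY D p) (g : G) : Prop :=
  ∀ x x' : T, (x' : G) = g * x * g⁻¹ → y * F.L.ι x * y⁻¹ = F.L.ι x'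

/-- the inner-diagonal elements of `G` -/
def XF.ID (F : XF hp p q T) (hT : T.Normal) : Subgroup G where
  carrier := {g | ∃ y, F.Ind y g}
  one_mem' := ⟨1, fun x x' h => by
    rw [one_mul, inv_one, mul_one] at h
    rw [one_mul, inv_one, mul_one, Subtype.ext h]⟩
  mul_mem' := by
    rintro g g' ⟨y, hy⟩ ⟨y', hy'⟩
    refine ⟨y * y', fun x x' h => ?_⟩
    have h1 := hy' x ⟨g' * x * g'⁻¹, hT.conj_mem _ x.2 g'⟩ rfl
    have h2 := hy ⟨g' * x * g'⁻¹, hT.conj_mem _ x.2 g'⟩ x' (by rw [h]; group)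
    rw [← h2, ← h1]
    group
  inv_mem' := by
    rintro g ⟨y, hy⟩
    refine ⟨y⁻¹, fun x x' h => ?_⟩
    rw [← hy x' x (by rw [h]; group)]
    group

variable (hp p)

/-- `A₀` is toral and some root is trivial on it -/
def HasRt (A₀ : Subgroup (YY D p)) : Prop :=
  ∃ z : YY D p, (∀ a ∈ A₀, z * a * z⁻¹ ∈ TT D (KK p)) ∧
    ∃ b, IsRoot M.toCoxeterSystem hp.isCartan b ∧ ∀ a ∈ A₀, cX hp (z * a * z⁻¹) b = 1

/-- the centralizer of `y` is centralised by elements of all large prime orders -/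
def LC (y : YY D p) : Prop :=
  ∀ s, DS.Nt.Lp p s → ∃ b : YY D p, b ≠ 1 ∧ b ^ s = 1 ∧ ∀ c : YY D p, c * y = y * c → b * c = c * b

end Frame

/-! ### the boxes -/

/-- existence of frames for the finite group `K` -/
def HasFrm {D : ChevalleyDatum} {l : ℕ} {M : CoxeterMatrix (Fin l)} (hp : IsType D l M) (p : ℕ) [Fact p.Prime]
    (K : Type) [Group K] : Prop :=
  ∀ (G : Type) [Group G] [Finite G] (T : Subgroup G), AS T → Nonempty (T ≃* K) → ∃ q, Nonempty (XF hp p q T)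

/-- [X] frames -/
def BoxFrmF4 : Prop := ∀ (p : ℕ) [Fact p.Prime] (F : Type) [Field F] [Fintype F] [CharP F p], HasFrm hpF4 p ↥(chevF4.group F)
def BoxFrmE6 : Prop := ∀ (p : ℕ) [Fact p.Prime] (F : Type) [Field F] [Fintype F] [CharP F p], HasFrm hpE6 p ↥(chevE6.group F)
def BoxFrmE7 : Prop := ∀ (p : ℕ) [Fact p.Prime] (F : Type) [Field F] [Fintype F] [CharP F p], HasFrm hpE7 p ↥(chevE7.group F)
def BoxFrmE8 : Prop := ∀ (p : ℕ) [Fact p.Prime] (F : Type) [Field F] [Fintype F] [CharP F p], HasFrm hpE8 p ↥(chevE8.group F)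
def BoxFrm2E6 : Prop := ∀ (p : ℕ) [Fact p.Prime] (F : Type) [Field F] [Fintype F] [CharP F p] (q : ℕ), IsPrimePow q →
  Fintype.card F = q ^ 2 → HasFrm hpE6 p ↥(twistedE6 F q)

/-- [CARD] orders of a finite reductive group and of its maximal torus; `q = p ^ n` -/
def BoxCard : Prop := ∀ (p : ℕ) [Fact p.Prime] (k : Type) [Field k] [CharP k p] [IsAlgClosed k] (Y : Type) [Group Y]
  (N : Type) [Fintype N] [DecidableEq N] (ρ : Y →* GL N k) (σ : MulAut Y) (H : Subgroup Y) (D : DL.Datum p ρ σ H)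
  (d n : ℕ), D.Split d (n * d) →
    (p ^ n - 1) ^ Fintype.card D.R ≤ Nat.card ↥(D.T ⊓ DL.GF σ H) ∧
    Nat.card ↥(D.T ⊓ DL.GF σ H) ≤ (p ^ n + 1) ^ Fintype.card D.R ∧
    Nat.card (DL.GF σ H) ≤ (p ^ n) ^ {a | D.Rt a}.ncard * (p ^ n + 1) ^ Fintype.card D.R

/-- [CI] centralizers of semisimple elements of prime order -/
def BoxCI : Prop := ∀ (D : ChevalleyDatum) (l : ℕ) (M : CoxeterMatrix (Fin l)) (hp : IsType D l M), Typ D →
  ∀ (p : ℕ) [Fact p.Prime] (e : ℕ) (σ : MulAut (YY D p)) (g : (Fin l → ℤ) ≃+ (Fin l → ℤ)), 0 < e → IsFrob p e σ →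
    Fr M.toCoxeterSystem hp.isCartan (TT D (KK p)) (XX D l (KK p)) σ g →
    ∀ y : YY D p, σ y = y → (orderOf y).Prime → orderOf y ≠ p →
      Nat.card ↥(DL.fix σ ⊓ Subgroup.centralizer {y}) ≤ bI l p (p ^ e)

/-- [CI6] two refinements for `E₆` -/
def BoxCI6 : Prop := ∀ (p : ℕ) [Fact p.Prime] (e : ℕ) (σ : MulAut (YY chevE6 p)) (g : (Fin 6 → ℤ) ≃+ (Fin 6 → ℤ)),
  0 < e → IsFrob p e σ → Fr CoxeterMatrix.E₆.toCoxeterSystem hpE6.isCartan (TT chevE6 (KK p)) (XX chevE6 6 (KK p)) σ g →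
    ∀ y : YY chevE6 p, σ y = y → (orderOf y).Prime → orderOf y ≠ p →
      ((p ^ e = 2 ∧ ∃ w, ∀ a, g a = rep CoxeterMatrix.E₆.toCoxeterSystem hpE6.isCartan w a) →
        Nat.card ↥(DL.fix σ ⊓ Subgroup.centralizer {y}) ≤ 2 ^ 32 * 3 ^ 6) ∧
      (orderOf y = 3 → (¬ LC p y ∨ ∃ x : YY chevE6 p, x ^ 3 = 1 ∧ x * y = y * x ∧ ¬ DS.Nt.Tp p y x) →
        Nat.card ↥(DL.fix σ ⊓ Subgroup.centralizer {y}) ≤ 3 * ((p ^ e) ^ 24 * (p ^ e + 1) ^ 6))

/-- [CRIT] the counting criterion.  `f` bounds the inner-diagonal part of `F(S)`, `r` bounds `S ⊓ T`, `2 ^ j` bounds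
`O₂(S ⊓ T)` (only `E₆`, `p` odd), `b` bounds the centralizers in `Y ^ σ` of the inner-diagonal elements of `F(S)`;
`MI, MG, MO` are lower bounds for the classes of inner-diagonal, graph and other elements. -/
def BoxCrit : Prop := ∀ (D : ChevalleyDatum) (l : ℕ) (M : CoxeterMatrix (Fin l)) (hp : IsType D l M), Typ D →
  ∀ (p : ℕ) [Fact p.Prime] (G : Type) [Group G] [Finite G] (T S : Subgroup G) (C : Ctx p T S) (q : ℕ) (F : XF hp p q T)
    (f r b j MI MG MO : ℕ), 0 < MI → 0 < MG → 0 < MO →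
    Nat.card ↥(fit S ⊓ F.ID C.as.normal) ≤ f → Nat.card ↥(S ⊓ T) ≤ r →
    (∀ c ∈ fit S, ∀ y, F.Ind y c → (orderOf y).Prime → orderOf y ≠ p →
      Nat.card ↥(DL.fix F.L.σ ⊓ Subgroup.centralizer {y}) ≤ b) →
    MI * (dM l * b) ≤ ordU l q →
    (D = chevE6 → p ≠ 2 → (∀ X : Subgroup G, X ≤ S ⊓ T → IsPGroup 2 X → Nm S X → Nat.card X ≤ 2 ^ j) ∧
      MG ^ (j + 1) * (3 * r) ≤ ordU l q) →
    MO * (dM l * r) ≤ ordU l q → (q ≠ p → (MO * dM l) ^ 2 * (4 ^ l * q ^ (2 * nP l + l)) ≤ ordU l q ^ 2) →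
    (r : ℚ) * (f / MI + 2 ^ j / MG + q * f / MO) ≤ 1 → FitReg T S

/-- [MAX] an invariant toral subgroup on which a root is trivial -/
def BoxMax : Prop := ∀ (D : ChevalleyDatum) (l : ℕ) (M : CoxeterMatrix (Fin l)) (hp : IsType D l M), Typ D →
  ∀ (p : ℕ) [Fact p.Prime] (G : Type) [Group G] [Finite G] (T S : Subgroup G), Ctx p T S → ∀ (q : ℕ) (F : XF hp p q T)
    (A₀ : Subgroup (YY D p)), A₀ ≠ ⊥ → F.L.Inv S A₀ → HasRt hp p A₀ → FitReg T S

/-- [TOR] the normaliser of a maximal torus -/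
def BoxTor : Prop := ∀ (D : ChevalleyDatum) (l : ℕ) (M : CoxeterMatrix (Fin l)) (hp : IsType D l M), Typ D →
  ∀ (p : ℕ) [Fact p.Prime] (G : Type) [Group G] [Finite G] (T S : Subgroup G), Ctx p T S → ∀ (q : ℕ) (F : XF hp p q T)
    (A₀ : Subgroup (YY D p)), A₀ ≠ ⊥ → F.L.Inv S A₀ → Toral p A₀ →
    (∀ A₁ : Subgroup (YY D p), A₁ ≠ ⊥ → F.L.Inv S A₁ → ¬ HasRt hp p A₁) → FitReg T S

/-- [NT] no invariant toral subgroup -/
def BoxNT : Prop := ∀ (D : ChevalleyDatum) (l : ℕ) (M : CoxeterMatrix (Fin l)) (hp : IsType D l M), Typ D →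
  ∀ (p : ℕ) [Fact p.Prime] (G : Type) [Group G] [Finite G] (T S : Subgroup G), Ctx p T S → ∀ (q : ℕ) (F : XF hp p q T),
    (∀ A₀ : Subgroup (YY D p), Toral p A₀ → F.L.Inv S A₀ → A₀ = ⊥) → FitReg T S

/-! ### assembly -/

theorem fitReg_of (hM : BoxMax) (hT : BoxTor) (hN : BoxNT) {D : ChevalleyDatum} {l : ℕ} {M : CoxeterMatrix (Fin l)}
    {hp : IsType D l M} (hD : Typ D) {p : ℕ} [Fact p.Prime] {G : Type} [Group G] [Finite G] {T S : Subgroup G}
    (C : Ctx p T S) {q : ℕ} (F : XF hp p q T) : FitReg T S := by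
  by_cases h1 : ∀ A₀ : Subgroup (YY D p), Toral p A₀ → F.L.Inv S A₀ → A₀ = ⊥
  · exact hN D l M hp hD p G T S C q F h1
  · push Not at h1
    obtain ⟨A₀, a1, a2, a3⟩ := h1
    by_cases h2 : ∀ A₁ : Subgroup (YY D p), A₁ ≠ ⊥ → F.L.Inv S A₁ → ¬ HasRt hp p A₁
    · exact hT D l M hp hD p G T S C q F A₀ a3 a2 a1 h2
    · push Not at h2
      obtain ⟨A₁, b1, b2, b3⟩ := h2
      exact hM D l M hp hD p G T S C q F A₁ b1 b2 b3

/-- restriction to `T S` -/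
theorem exists_ctx {p : ℕ} {A : Type} [Group A] {T S : Subgroup A} (hT : AS T) (hS : Group.IsSolvable S) (hm : MaxInv T S)
    (hn : NPar p T S) : Ctx p (T.subgroupOf (T ⊔ S)) (S.subgroupOf (T ⊔ S)) ∧
      (T.subgroupOf (T ⊔ S)).map (T ⊔ S).subtype = T ∧ (S.subgroupOf (T ⊔ S)).map (T ⊔ S).subtype = S := by
  have e1 : (T.subgroupOf (T ⊔ S)).map (T ⊔ S).subtype = T := Subgroup.map_subgroupOf_eq_of_le le_sup_left
  have e2 : (S.subgroupOf (T ⊔ S)).map (T ⊔ S).subtype = S := Subgroup.map_subgroupOf_eq_of_le le_sup_right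
  have hi := (T ⊔ S).subtype_injective
  have e := Subgroup.subgroupOfEquivOfLe (le_sup_left : T ≤ T ⊔ S)
  have hs := hT.simple
  refine ⟨⟨⟨hT.normal.subgroupOf _, e.isSimpleGroup, fun h => hT.nonab ⟨⟨fun a b => ?_⟩⟩, ?_⟩, ?_, ?_, ?_, ?_⟩, e1, e2⟩
  · apply e.symm.injective
    rw [map_mul, map_mul]
    exact h.1.1 _ _
  · rw [eq_bot_iff]
    intro x hx
    have h1 : (x : A) ∈ Subgroup.centralizer (T : Set A) := fun t ht =>
      congrArg Subtype.val (hx ⟨t, Subgroup.mem_sup_left ht⟩ ht)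
    rw [hT.cent, Subgroup.mem_bot] at h1
    exact Subgroup.mem_bot.2 (Subtype.ext h1)
  · exact Group.isSolvable_of_isSolvable_injective (f := (Subgroup.subgroupOfEquivOfLe (le_sup_right : S ≤ T ⊔ S)).toMonoidHom)
      (MulEquiv.injective _)
  · exact MaxInv.of_map _ hi (by rw [e1, e2]; exact hm)
  · exact NPar.of_map _ hi (by rw [e1, e2]; exact hn)
  · apply Subgroup.map_injective hi
    rw [Subgroup.map_sup, e1, e2, ← MonoidHom.range_eq_map, Subgroup.range_subtype]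

theorem rowN_of (hM : BoxMax) (hT : BoxTor) (hN : BoxNT) {D : ChevalleyDatum} {l : ℕ} {M : CoxeterMatrix (Fin l)}
    {hp : IsType D l M} (hD : Typ D) {p : ℕ} [Fact p.Prime] {K K₀ : Type} [Group K] [Finite K] [IsSimpleGroup K]
    [Group K₀] (hK : ¬ IsMulCommutative K) (e : K ≃* K₀) (h : HasFrm hp p K₀) : RowN p K := by
  intro S hS hm hn
  obtain ⟨C, e1, e2⟩ := exists_ctx (as_inn hK) hS hm hn
  obtain ⟨q, ⟨F⟩⟩ := h _ _ C.as ⟨((Subgroup.subgroupOfEquivOfLe le_sup_left).trans (innEquiv hK).symm).trans e⟩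
  have h1 := (fitReg_of hM hT hN hD C F).map (InnG K ⊔ S).subtype (InnG K ⊔ S).subtype_injective
  rw [e1, e2] at h1
  exact Or.inl h1

theorem fact_char (F : Type) [Field F] [Fintype F] (p : ℕ) [CharP F p] : Fact p.Prime := ⟨CharP.char_is_prime F p⟩

theorem nF4_of (hX : BoxFrmF4) (hM : BoxMax) (hT : BoxTor) (hN : BoxNT) : BoxN fun p K _ => ChevChar Lie.chevF4 p K := by
  rintro p K _ _ _ hK - ⟨F, _, _, _, ⟨e⟩⟩
  have := fact_char F p
  exact rowN_of hM hT hN (Or.inl rfl) hK e (hX p F)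

theorem nE6_of (hX : BoxFrmE6) (hM : BoxMax) (hT : BoxTor) (hN : BoxNT) : BoxN fun p K _ => ChevChar Lie.chevE6 p K := by
  rintro p K _ _ _ hK - ⟨F, _, _, _, ⟨e⟩⟩
  have := fact_char F p
  exact rowN_of hM hT hN (Or.inr (Or.inl rfl)) hK e (hX p F)

theorem nE7_of (hX : BoxFrmE7) (hM : BoxMax) (hT : BoxTor) (hN : BoxNT) : BoxN fun p K _ => ChevChar Lie.chevE7 p K := by
  rintro p K _ _ _ hK - ⟨F, _, _, _, ⟨e⟩⟩
  have := fact_char F p
  exact rowN_of hM hT hN (Or.inr (Or.inr (Or.inl rfl))) hK e (hX p F)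

theorem nE8_of (hX : BoxFrmE8) (hM : BoxMax) (hT : BoxTor) (hN : BoxNT) : BoxN fun p K _ => ChevChar Lie.chevE8 p K := by
  rintro p K _ _ _ hK - ⟨F, _, _, _, ⟨e⟩⟩
  have := fact_char F p
  exact rowN_of hM hT hN (Or.inr (Or.inr (Or.inr rfl))) hK e (hX p F)

theorem n2E6_of (hX : BoxFrm2E6) (hM : BoxMax) (hT : BoxTor) (hN : BoxNT) :
    BoxN fun p K _ => ∃ (F : Type) (_ : Field F) (_ : Fintype F) (_ : CharP F p) (q : ℕ), IsPrimePow q ∧
      Fintype.card F = q ^ 2 ∧ Nonempty (K ≃* Lie.twistedE6 F q) := by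
  rintro p K _ _ _ hK - ⟨F, _, _, _, q, hq, hF, ⟨e⟩⟩
  have := fact_char F p
  exact rowN_of hM hT hN (Or.inr (Or.inl rfl)) hK e (hX p F q hq hF)

end Cfsg.Agent.SB.Exc
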